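import Groth.Prelude.Def_Brnch
import Groth.Prelude.Def_Curv2
import Mathlib.AlgebraicGeometry.FunctionField
import Mathlib.AlgebraicGeometry.ResidueField
import Mathlib.FieldTheory.SeparableDegree
import Mathlib.Topology.Algebra.InfiniteSum.ENNReal
import Mathlib.Topology.Instances.ENNReal.ENatENNReal

/-!
# Branches of an integral scheme at a point
-/

namespace Groth.Agent.NormRed18

open CategoryTheory AlgebraicGeometry
universe u v

theorem enat_card_sigma {α : Type u} (β : α → Type v) : ENat.card (Σ a, β a) = ∑' a, ENat.card (β a) := by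
  rw [← ENat.toENNReal_inj]
  have h := (ENat.isClosedEmbedding_toENNReal).map_tsum (G := ℕ∞ →+ ENNReal)
    (g := ENat.toENNRealRingHom.toAddMonoidHom) (f := fun a => ENat.card (β a)) (L := SummationFilter.unconditional α)
  rw [← ENNReal.tsum_one, ENNReal.tsum_sigma' fun _ => (1 : ENNReal)]
  simp_rw [ENNReal.tsum_one]
  exact h.symm

/-- commutative algebra: the normalisation `C` of a localisation `A` is a localisation of the normalisation -/
structure Data (R S A C : Type u) [CommRing R] [CommRing S] [CommRing A] [CommRing C] where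
  φ : R →+* S
  loc : R →+* A
  ψ : S →+* C
  toC : A →+* C
  P : Ideal R
  comm : ψ.comp φ = toC.comp loc
  unit : ∀ r, r ∉ P → IsUnit (loc r)
  surj : ∀ a : A, ∃ r s, s ∉ P ∧ a * loc s = loc r
  lift : ∀ c : C, ∃ b s, s ∉ P ∧ c * ψ (φ s) = ψ b
  above : ∀ (M : Ideal C), M.IsMaximal → ∀ r, r ∈ P → ψ (φ r) ∈ M
  inj : Function.Injective ψ

variable {R S A C : Type u} [CommRing R] [CommRing S] [CommRing A] [CommRing C]

/-- maximal ideals of `C` are the primes of `S` over `P` -/
noncomputable def Data.equiv (D : Data R S A C) [D.P.IsPrime] (hint : D.φ.IsIntegral) :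
    MaximalSpectrum C ≃ {Q : PrimeSpectrum S // Q.asIdeal.comap D.φ = D.P} := by
  let M : Submonoid S := D.P.primeCompl.map D.φ
  refine Equiv.ofBijective (fun m => ⟨⟨m.asIdeal.comap D.ψ, inferInstance⟩, ?_⟩) ⟨?_, ?_⟩
  · refine le_antisymm (fun r hr => ?_) (fun r hr => D.above m.asIdeal m.isMaximal r hr)
    by_contra hrP
    have hu : IsUnit (D.ψ (D.φ r)) := by
      rw [← RingHom.comp_apply, D.comm]; exact (D.unit r hrP).map D.toC
    exact m.isMaximal.ne_top (Ideal.eq_top_of_isUnit_mem _ hr hu)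
  · intro m m' h
    have h' : m.asIdeal.comap D.ψ = m'.asIdeal.comap D.ψ := congrArg (fun z => z.1.asIdeal) h
    refine MaximalSpectrum.ext (m.isMaximal.eq_of_le m'.isMaximal.ne_top fun c hc => ?_)
    obtain ⟨b, s, hs, hb⟩ := D.lift c
    have hu : IsUnit (D.ψ (D.φ s)) := by rw [← RingHom.comp_apply, D.comm]; exact (D.unit s hs).map D.toC
    have hb' : b ∈ m'.asIdeal.comap D.ψ := h' ▸ (by rw [Ideal.mem_comap, ← hb]; exact Ideal.mul_mem_right _ _ hc)
    rw [Ideal.mem_comap, ← hb] at hb'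
    exact (Ideal.IsPrime.mem_or_mem m'.isMaximal.isPrime hb').resolve_right fun hh =>
      m'.isMaximal.ne_top (Ideal.eq_top_of_isUnit_mem _ hh hu)
  · rintro ⟨⟨Q, hQ⟩, hQP⟩
    letI : Algebra R S := D.φ.toAlgebra
    haveI : Algebra.IsIntegral R S := ⟨hint⟩
    have hne : Q.map D.ψ ≠ ⊤ := by
      intro htop
      obtain ⟨g, hg⟩ : ∃ g : Q, True := ⟨0, trivial⟩
      have key : ∀ c ∈ Q.map D.ψ, ∃ b ∈ Q, ∃ s, s ∉ D.P ∧ c * D.ψ (D.φ s) = D.ψ b := by
        intro c hc
        induction hc using Submodule.span_induction with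
        | mem x hx =>
          obtain ⟨b, hb, rfl⟩ := hx
          exact ⟨b, hb, 1, fun h1 => ‹D.P.IsPrime›.ne_top ((Ideal.eq_top_iff_one _).2 h1), by simp⟩
        | zero => exact ⟨0, zero_mem _, 1, fun h1 => ‹D.P.IsPrime›.ne_top ((Ideal.eq_top_iff_one _).2 h1), by simp⟩
        | add x y _ _ hx hy =>
          obtain ⟨b, hb, s, hs, h1⟩ := hx
          obtain ⟨b', hb', s', hs', h2⟩ := hy
          refine ⟨b * D.φ s' + b' * D.φ s, add_mem (Ideal.mul_mem_right _ _ hb) (Ideal.mul_mem_right _ _ hb'), s * s',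
            fun hh => (‹D.P.IsPrime›.mem_or_mem hh).elim hs hs', ?_⟩
          simp only [map_add, map_mul, ← h1, ← h2]
          ring
        | smul a x _ hx =>
          obtain ⟨b, hb, s, hs, h1⟩ := hx
          obtain ⟨b', t, ht, h2⟩ := D.lift a
          refine ⟨b' * b, Ideal.mul_mem_left _ _ hb, t * s, fun hh => (‹D.P.IsPrime›.mem_or_mem hh).elim ht hs, ?_⟩
          simp only [smul_eq_mul, map_mul, ← h1, ← h2]
          ring
      obtain ⟨b, hb, s, hs, h1⟩ := key 1 (htop ▸ Submodule.mem_top)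
      rw [one_mul] at h1
      exact hs (by rw [← hQP, Ideal.mem_comap, D.inj h1]; exact hb)
    obtain ⟨m, hm, hQm⟩ := Ideal.exists_le_maximal _ hne
    refine ⟨⟨m, hm⟩, Subtype.ext (PrimeSpectrum.ext ?_)⟩
    show m.comap D.ψ = Q
    have hle : Q ≤ m.comap D.ψ := Ideal.map_le_iff_le_comap.1 hQm
    refine (le_antisymm hle ?_).symm
    by_contra hn
    have hlt : Q.comap (algebraMap R S) < (m.comap D.ψ).comap (algebraMap R S) :=
      Ideal.IsIntegral.comap_lt_comap (lt_of_le_not_ge hle hn)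
    apply not_lt_of_ge ?_ hlt
    intro r hr
    have hrP : r ∈ D.P := by
      by_contra hrP
      have hu : IsUnit (D.ψ (D.φ r)) := by rw [← RingHom.comp_apply, D.comm]; exact (D.unit r hrP).map D.toC
      exact hm.ne_top (Ideal.eq_top_of_isUnit_mem _ hr hu)
    show D.φ r ∈ Q
    rw [← Ideal.mem_comap, hQP]; exact hrP

end Groth.Agent.NormRed18
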