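import Groth.Agent.Lib.NormRed18.Branch

/-!
# The normalisation fibre and the semilocal ring at a point
-/

namespace Groth.Agent.NormRed18

open CategoryTheory AlgebraicGeometry
universe u

variable (X : Scheme.{u}) [IsIntegral X]
    [QuasiCompact (X.fromSpecStalk (genericPoint X))] [QuasiSeparated (X.fromSpecStalk (genericPoint X))]

lemma nilradical_stalk (x : X) : nilradical (X.presheaf.stalk x) = ⊥ := nilradical_eq_zero _

/-- the stalk is its own reduction -/
noncomputable def redEquiv (x : X) : CAlg2.red (X.presheaf.stalk x) ≃+* X.presheaf.stalk x :=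
  (Ideal.quotEquivOfEq (nilradical_stalk X x)).trans (RingEquiv.quotientBot _)

lemma redEquiv_mk (x : X) (a : X.presheaf.stalk x) : redEquiv X x (Ideal.Quotient.mk _ a) = a := by
  simp [redEquiv]

/-- the fraction ring of the reduced stalk is the function field -/
noncomputable def fracEquiv (x : X) : FractionRing (CAlg2.red (X.presheaf.stalk x)) ≃+* X.functionField :=
  haveI : IsDomain (CAlg2.red (X.presheaf.stalk x)) := (redEquiv X x).toMulEquiv.isDomain
  IsFractionRing.ringEquivOfRingEquiv (redEquiv X x)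

lemma fracEquiv_algebraMap (x : X) (a : CAlg2.red (X.presheaf.stalk x)) :
    fracEquiv X x (algebraMap _ _ a) = algebraMap (X.presheaf.stalk x) X.functionField (redEquiv X x a) :=
  IsFractionRing.ringEquivOfRingEquiv_algebraMap _ a

theorem isIntegralHom_normalizationι : IsIntegralHom (Curv2.normalizationι X) :=
  inferInstanceAs (IsIntegralHom (X.fromSpecStalk (genericPoint X)).fromNormalization)

/-- the package at a point -/
theorem exists_data (U : X.Opens) (hU : IsAffineOpen U) (x : X) (hx : x ∈ U) :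
    ∃ D : Data Γ(X, U) Γ(Curv2.normalization X, (Curv2.normalizationι X) ⁻¹ᵁ U) (X.presheaf.stalk x)
        (CAlg2.normRed (X.presheaf.stalk x)),
      D.φ = ((Curv2.normalizationι X).app U).hom ∧ D.loc = (X.presheaf.germ U x hx).hom ∧
      D.toC = (algebraMap (CAlg2.red (X.presheaf.stalk x)) (CAlg2.normRed (X.presheaf.stalk x))).comp (Ideal.Quotient.mk _) ∧
      D.P = (hU.primeIdealOf ⟨x, hx⟩).asIdeal := by
  haveI : Nonempty U := ⟨⟨x, hx⟩⟩
  have hη : genericPoint X ∈ U := ((genericPoint_spec X).mem_open_set_iff U.isOpen).mpr ⟨x, trivial, hx⟩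
  let g := X.fromSpecStalk (genericPoint X)
  letI : Algebra Γ(X, U) Γ(Spec (X.presheaf.stalk (genericPoint X)), g ⁻¹ᵁ U) := (g.app U).hom.toAlgebra
  have hpre : g ⁻¹ᵁ U = ⊤ := by
    apply top_le_iff.1
    intro y _
    show g y ∈ U
    exact (show g y ⤳ genericPoint X from by
      have : g y ∈ {z | z ⤳ genericPoint X} := by rw [← Scheme.range_fromSpecStalk]; exact ⟨y, rfl⟩
      exact this).mem_open U.2 hη
  let e₀ : X.functionField ≅ Γ(Spec (X.presheaf.stalk (genericPoint X)), g ⁻¹ᵁ U) :=
    (Scheme.ΓSpecIso (X.presheaf.stalk (genericPoint X))).symm ≪≫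
      (Spec (X.presheaf.stalk (genericPoint X))).presheaf.mapIso (eqToIso hpre).op
  have he₀ : g.app U = X.germToFunctionField U ≫ e₀.hom := by
    rw [Scheme.fromSpecStalk_app hη]
    rfl
  let E := e₀.commRingCatIsoToRingEquiv
  have hE : ∀ r, E.symm ((g.app U) r) = X.germToFunctionField U r := fun r => by
    rw [he₀]; exact E.symm_apply_apply _
  let ε := ((g.normalizationObjIso hU).commRingCatIsoToRingEquiv :
    Γ(Curv2.normalization X, (Curv2.normalizationι X) ⁻¹ᵁ U) ≃+*
      integralClosure Γ(X, U) Γ(Spec (X.presheaf.stalk (genericPoint X)), g ⁻¹ᵁ U))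
  have hε : ∀ r, (ε ((Curv2.normalizationι X).app U r) : Γ(Spec (X.presheaf.stalk (genericPoint X)), g ⁻¹ᵁ U)) = g.app U r := by
    intro r
    have h1 : (Curv2.normalizationι X).app U = CommRingCat.ofHom (algebraMap Γ(X, U) _) ≫ (g.normalizationObjIso hU).inv :=
      g.fromNormalization_app hU
    have h2 : ε ((Curv2.normalizationι X).app U r) = algebraMap Γ(X, U) _ r := by
      rw [h1]; exact ε.apply_symm_apply _
    rw [h2]; rfl
  let η : Γ(Curv2.normalization X, (Curv2.normalizationι X) ⁻¹ᵁ U) →+* FractionRing (CAlg2.red (X.presheaf.stalk x)) :=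
    ((fracEquiv X x).symm.toRingHom.comp E.symm.toRingHom).comp ((Subalgebra.val _).toRingHom.comp ε.toRingHom)
  let q : Γ(X, U) →+* CAlg2.red (X.presheaf.stalk x) := (Ideal.Quotient.mk _).comp (X.presheaf.germ U x hx).hom
  have hη' : ∀ r, η ((Curv2.normalizationι X).app U r) = algebraMap _ _ (q r) := fun r => by
    apply (fracEquiv X x).injective
    show (fracEquiv X x) ((fracEquiv X x).symm (E.symm (ε ((Curv2.normalizationι X).app U r)).1)) = _
    rw [RingEquiv.apply_symm_apply, hε, hE, fracEquiv_algebraMap]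
    show _ = algebraMap (X.presheaf.stalk x) X.functionField (redEquiv X x (Ideal.Quotient.mk _ (X.presheaf.germ U x hx r)))
    rw [redEquiv_mk, Scheme.algebraMap_germ_eq_germToFunctionField]
  have hmem : ∀ s, η s ∈ integralClosure (CAlg2.red (X.presheaf.stalk x)) (FractionRing (CAlg2.red (X.presheaf.stalk x))) := by
    intro s
    obtain ⟨p, hp, hps⟩ := (isIntegralHom_normalizationι X).isIntegral_app U hU s
    refine ⟨p.map q, hp.map q, ?_⟩
    rw [Polynomial.eval₂_map,
      show (algebraMap (CAlg2.red (X.presheaf.stalk x)) (FractionRing (CAlg2.red (X.presheaf.stalk x)))).comp q = η.comp ((Curv2.normalizationι X).app U).hom from RingHom.ext fun r => (hη' r).symm,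
      ← Polynomial.hom_eval₂, hps, map_zero]
  have hunit : ∀ r, r ∉ (hU.primeIdealOf ⟨x, hx⟩).asIdeal → IsUnit (X.presheaf.germ U x hx r) := by
    intro r hr
    letI := TopCat.Presheaf.algebra_section_stalk X.presheaf (⟨x, hx⟩ : U)
    haveI := hU.isLocalization_stalk ⟨x, hx⟩
    exact IsLocalization.map_units (X.presheaf.stalk x) (⟨r, hr⟩ : (hU.primeIdealOf ⟨x, hx⟩).asIdeal.primeCompl)
  refine ⟨{
    φ := ((Curv2.normalizationι X).app U).hom
    loc := (X.presheaf.germ U x hx).hom
    ψ := η.codRestrict (integralClosure (CAlg2.red (X.presheaf.stalk x)) (FractionRing (CAlg2.red (X.presheaf.stalk x)))) hmem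
    toC := (algebraMap (CAlg2.red (X.presheaf.stalk x)) (CAlg2.normRed (X.presheaf.stalk x))).comp (Ideal.Quotient.mk _)
    P := (hU.primeIdealOf ⟨x, hx⟩).asIdeal
    comm := RingHom.ext fun r => Subtype.ext (hη' r)
    unit := hunit
    surj := ?_
    lift := ?_
    above := ?_
    inj := fun a b hab => ε.injective (Subtype.ext (E.symm.injective ((fracEquiv X x).symm.injective (congrArg Subtype.val hab)))) },
    rfl, rfl, rfl, rfl⟩
  · intro a
    letI := TopCat.Presheaf.algebra_section_stalk X.presheaf (⟨x, hx⟩ : U)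
    haveI := hU.isLocalization_stalk ⟨x, hx⟩
    obtain ⟨⟨r, s, hs⟩, h⟩ := IsLocalization.surj (hU.primeIdealOf ⟨x, hx⟩).asIdeal.primeCompl a
    exact ⟨r, s, hs, h⟩
  · intro c
    letI := TopCat.Presheaf.algebra_section_stalk X.presheaf (⟨x, hx⟩ : U)
    haveI := hU.isLocalization_stalk ⟨x, hx⟩
    haveI : IsScalarTower Γ(X, U) (X.presheaf.stalk x) X.functionField := IsScalarTower.of_algebraMap_eq fun r =>
      (Scheme.algebraMap_germ_eq_germToFunctionField X hx r).symm
    obtain ⟨p, hp, hpc⟩ := c.2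
    have hz : IsIntegral (X.presheaf.stalk x) (fracEquiv X x c.1) := by
      refine ⟨p.map (redEquiv X x).toRingHom, hp.map _, ?_⟩
      rw [Polynomial.eval₂_map,
        show (algebraMap (X.presheaf.stalk x) X.functionField).comp (redEquiv X x).toRingHom =
          (fracEquiv X x).toRingHom.comp (algebraMap _ _) from RingHom.ext fun a => (fracEquiv_algebraMap X x a).symm,
        show fracEquiv X x c.1 = (fracEquiv X x).toRingHom c.1 from rfl, ← Polynomial.hom_eval₂, hpc, map_zero]
    obtain ⟨⟨m, hm⟩, k, hk, hkm⟩ := IsIntegral.exists_multiple_integral_of_isLocalization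
      (hU.primeIdealOf ⟨x, hx⟩).asIdeal.primeCompl (fracEquiv X x c.1) hz
    have hmem' : IsIntegral Γ(X, U) (E (m • fracEquiv X x c.1)) := by
      refine ⟨k, hk, ?_⟩
      rw [show algebraMap Γ(X, U) Γ(Spec (X.presheaf.stalk (genericPoint X)), g ⁻¹ᵁ U) =
          E.toRingHom.comp (algebraMap Γ(X, U) X.functionField) from RingHom.ext fun r => by
        show g.app U r = E (X.germToFunctionField U r)
        rw [← hE, E.apply_symm_apply],
        show E (m • fracEquiv X x c.1) = E.toRingHom (m • fracEquiv X x c.1) from rfl, ← Polynomial.hom_eval₂]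
      exact (congrArg E.toRingHom hkm).trans (map_zero _)
    refine ⟨ε.symm ⟨_, hmem'⟩, m, hm, Subtype.ext ((fracEquiv X x).injective ?_)⟩
    show fracEquiv X x (c.1 * η ((Curv2.normalizationι X).app U m)) =
      fracEquiv X x ((fracEquiv X x).symm (E.symm (ε (ε.symm ⟨_, hmem'⟩)).1))
    rw [RingEquiv.apply_symm_apply, RingEquiv.apply_symm_apply, RingEquiv.symm_apply_apply, hη', map_mul,
      fracEquiv_algebraMap, Algebra.smul_def, mul_comm]
    congr 1
    show algebraMap (X.presheaf.stalk x) X.functionField (redEquiv X x (Ideal.Quotient.mk _ (X.presheaf.germ U x hx m))) = _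
    rw [redEquiv_mk, Scheme.algebraMap_germ_eq_germToFunctionField]
    rfl
  · intro M hM r hr
    haveI := hM
    haveI : Algebra.IsIntegral (CAlg2.red (X.presheaf.stalk x)) (CAlg2.normRed (X.presheaf.stalk x)) := inferInstance
    haveI h1 : (M.comap (algebraMap (CAlg2.red (X.presheaf.stalk x)) (CAlg2.normRed (X.presheaf.stalk x)))).IsMaximal :=
      Ideal.isMaximal_comap_of_isIntegral_of_isMaximal M
    have h2 := IsLocalRing.eq_maximalIdeal (Ideal.comap_isMaximal_of_surjective (Ideal.Quotient.mk (nilradical (X.presheaf.stalk x))) Ideal.Quotient.mk_surjective (K := M.comap (algebraMap (CAlg2.red (X.presheaf.stalk x)) (CAlg2.normRed (X.presheaf.stalk x)))) )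
    letI := TopCat.Presheaf.algebra_section_stalk X.presheaf (⟨x, hx⟩ : U)
    haveI := hU.isLocalization_stalk ⟨x, hx⟩
    have hr' : X.presheaf.germ U x hx r ∈ IsLocalRing.maximalIdeal (X.presheaf.stalk x) :=
      (IsLocalization.AtPrime.to_map_mem_maximal_iff (X.presheaf.stalk x) (hU.primeIdealOf ⟨x, hx⟩).asIdeal r).2 hr
    rw [← h2, Ideal.mem_comap] at hr'
    show (⟨η ((Curv2.normalizationι X).app U r), hmem _⟩ : CAlg2.normRed (X.presheaf.stalk x)) ∈ M
    rw [show (⟨η ((Curv2.normalizationι X).app U r), hmem _⟩ : CAlg2.normRed (X.presheaf.stalk x)) =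
      algebraMap _ _ (q r) from Subtype.ext (hη' r)]
    exact hr'

theorem comap_primeIdealOf {U : X.Opens} (hU : IsAffineOpen U)
    (hV : IsAffineOpen ((Curv2.normalizationι X) ⁻¹ᵁ U)) (x' : ↥(Curv2.normalization X))
    (hx' : Curv2.normalizationι X x' ∈ U) :
    (hV.primeIdealOf ⟨x', hx'⟩).asIdeal.comap ((Curv2.normalizationι X).app U).hom =
      (hU.primeIdealOf ⟨_, hx'⟩).asIdeal := by
  rw [Scheme.Hom.app_eq_appLE]
  exact congrArg PrimeSpectrum.asIdeal (IsAffineOpen.comap_primeIdealOf_appLE U hU _ hV le_rfl hx')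

/-- the points over `x` are the primes over the prime of `x` -/
noncomputable def fiberEquiv {U : X.Opens} (hU : IsAffineOpen U)
    (hV : IsAffineOpen ((Curv2.normalizationι X) ⁻¹ᵁ U)) (x : X) (hx : x ∈ U) :
    {Q : PrimeSpectrum Γ(Curv2.normalization X, (Curv2.normalizationι X) ⁻¹ᵁ U) //
        Q.asIdeal.comap ((Curv2.normalizationι X).app U).hom = (hU.primeIdealOf ⟨x, hx⟩).asIdeal} ≃
      {x' : ↥(Curv2.normalization X) // Curv2.normalizationι X x' = x} := by
  have hinj : ∀ (Q : PrimeSpectrum Γ(Curv2.normalization X, (Curv2.normalizationι X) ⁻¹ᵁ U)) (h : hV.fromSpec Q ∈ (Curv2.normalizationι X) ⁻¹ᵁ U),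
      hV.primeIdealOf ⟨hV.fromSpec Q, h⟩ = Q := fun Q h =>
    hV.fromSpec.isOpenEmbedding.injective (hV.fromSpec_primeIdealOf _)
  have hmem : ∀ Q, hV.fromSpec Q ∈ (Curv2.normalizationι X) ⁻¹ᵁ U := fun Q => by
    have : hV.fromSpec Q ∈ hV.fromSpec.opensRange := ⟨Q, rfl⟩
    rwa [hV.opensRange_fromSpec] at this
  have key : ∀ (x' : ↥(Curv2.normalization X)) (hx' : Curv2.normalizationι X x' ∈ U),
      (hV.primeIdealOf ⟨x', hx'⟩).asIdeal.comap ((Curv2.normalizationι X).app U).hom = (hU.primeIdealOf ⟨x, hx⟩).asIdeal ↔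
        Curv2.normalizationι X x' = x := fun x' hx' => by
    rw [comap_primeIdealOf X hU hV x' hx']
    refine ⟨fun h => ?_, fun h => ?_⟩
    · have := congrArg hU.fromSpec (PrimeSpectrum.ext h)
      rwa [hU.fromSpec_primeIdealOf, hU.fromSpec_primeIdealOf] at this
    · subst h; rfl
  exact
    { toFun := fun Q => ⟨hV.fromSpec Q.1, (key _ (hmem _)).1 (by rw [hinj _ (hmem _)]; exact Q.2)⟩
      invFun := fun x' => ⟨hV.primeIdealOf ⟨x'.1, show Curv2.normalizationι X x'.1 ∈ U by rw [x'.2]; exact hx⟩,
        (key _ _).2 x'.2⟩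
      left_inv := fun Q => Subtype.ext (hinj _ (hmem _))
      right_inv := fun x' => Subtype.ext (hV.fromSpec_primeIdealOf _) }

lemma fiberEquiv_spec {U : X.Opens} (hU : IsAffineOpen U)
    (hV : IsAffineOpen ((Curv2.normalizationι X) ⁻¹ᵁ U)) (x : X) (hx : x ∈ U) (Q) :
    hV.primeIdealOf ⟨(fiberEquiv X hU hV x hx Q).1,
      show Curv2.normalizationι X _ ∈ U by rw [(fiberEquiv X hU hV x hx Q).2]; exact hx⟩ = Q.1 :=
  by
    have h := congrArg Subtype.val ((fiberEquiv X hU hV x hx).symm_apply_apply Q)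
    exact h

/-- the residue field of a point over `x` is the residue field of the matching maximal ideal -/
theorem card_emb {U : X.Opens} (hU : IsAffineOpen U)
    (hV : IsAffineOpen ((Curv2.normalizationι X) ⁻¹ᵁ U)) (x' : ↥(Curv2.normalization X))
    (x : X) (e : Curv2.normalizationι X x' = x) (hx : x ∈ U)
    (D : Data Γ(X, U) Γ(Curv2.normalization X, (Curv2.normalizationι X) ⁻¹ᵁ U) (X.presheaf.stalk x)
        (CAlg2.normRed (X.presheaf.stalk x)))
    (hφ : D.φ = ((Curv2.normalizationι X).app U).hom) (hloc : D.loc = (X.presheaf.germ U x hx).hom)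
    (htoC : D.toC = (algebraMap (CAlg2.red (X.presheaf.stalk x)) (CAlg2.normRed (X.presheaf.stalk x))).comp (Ideal.Quotient.mk _))
    (hP : D.P = (hU.primeIdealOf ⟨x, hx⟩).asIdeal)
    (m : MaximalSpectrum (CAlg2.normRed (X.presheaf.stalk x)))
    (hm : m.asIdeal.comap D.ψ = (hV.primeIdealOf ⟨x', show Curv2.normalizationι X x' ∈ U from e ▸ hx⟩).asIdeal) :
    ENat.card (Brnch.Emb (X.presheaf.stalk x) m) =
      (letI := ((Curv2.normalizationι X).residueFieldMap x').hom.toAlgebra
       ENat.card (Field.Emb (X.residueField ((Curv2.normalizationι X).base x'))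
         ((Curv2.normalization X).residueField x'))) := by
  subst e
  letI := Ideal.Quotient.field m.asIdeal
  letI : Algebra Γ(Curv2.normalization X, (Curv2.normalizationι X) ⁻¹ᵁ U) ((Curv2.normalization X).presheaf.stalk x') :=
    TopCat.Presheaf.algebra_section_stalk (Curv2.normalization X).presheaf (⟨x', hx⟩ : ((Curv2.normalizationι X) ⁻¹ᵁ U : (Curv2.normalization X).Opens))
  let Q := (hV.primeIdealOf ⟨x', hx⟩).asIdeal
  haveI hloc' : IsLocalization.AtPrime ((Curv2.normalization X).presheaf.stalk x') Q := hV.isLocalization_stalk ⟨x', hx⟩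
  let ρ : Γ(Curv2.normalization X, (Curv2.normalizationι X) ⁻¹ᵁ U) →+* CAlg2.normRed (X.presheaf.stalk (Curv2.normalizationι X x')) ⧸ m.asIdeal :=
    (Ideal.Quotient.mk m.asIdeal).comp D.ψ
  have hρ : ∀ s : Q.primeCompl, IsUnit (ρ s) := fun s => IsUnit.mk0 _ fun h0 => s.2 (by
    show (s : Γ(Curv2.normalization X, (Curv2.normalizationι X) ⁻¹ᵁ U)) ∈ (hV.primeIdealOf ⟨x', hx⟩).asIdeal
    rw [← hm]
    exact Ideal.mem_comap.2 ((Ideal.Quotient.eq_zero_iff_mem (I := m.asIdeal)).1 h0))
  let θ : (Curv2.normalization X).presheaf.stalk x' →+* CAlg2.normRed (X.presheaf.stalk (Curv2.normalizationι X x')) ⧸ m.asIdeal :=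
    IsLocalization.lift hρ
  have hθeq : ∀ s, θ (algebraMap _ _ s) = ρ s := IsLocalization.lift_eq hρ
  have hsurj : Function.Surjective θ := by
    intro c
    obtain ⟨c, rfl⟩ := Ideal.Quotient.mk_surjective c
    obtain ⟨b, s, hs, hb⟩ := D.lift c
    have hsQ : D.φ s ∈ Q.primeCompl := fun h => hs (by
      have h' : s ∈ (hU.primeIdealOf ⟨_, hx⟩).asIdeal := by
        rw [← comap_primeIdealOf X hU hV x' hx, Ideal.mem_comap, ← hφ]; exact h
      rwa [hP])
    refine ⟨IsLocalization.mk' _ b (⟨D.φ s, hsQ⟩ : Q.primeCompl), ?_⟩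
    show IsLocalization.lift hρ _ = _
    rw [IsLocalization.lift_mk'_spec]
    show Ideal.Quotient.mk m.asIdeal (D.ψ b) = Ideal.Quotient.mk m.asIdeal (D.ψ (D.φ s)) * Ideal.Quotient.mk m.asIdeal c
    rw [← hb, map_mul, mul_comm]
  haveI : IsLocalHom θ := hsurj.isLocalHom θ
  have hker : RingHom.ker θ = IsLocalRing.maximalIdeal _ :=
    IsLocalRing.eq_maximalIdeal (RingHom.ker_isMaximal_of_surjective θ hsurj)
  let χ : (Curv2.normalization X).residueField x' ≃+* CAlg2.normRed (X.presheaf.stalk (Curv2.normalizationι X x')) ⧸ m.asIdeal :=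
    (Ideal.quotEquivOfEq hker.symm).trans (RingHom.quotientKerEquivOfSurjective hsurj)
  letI alg := ((Curv2.normalizationι X).residueFieldMap x').hom.toAlgebra
  let F := X.residueField (Curv2.normalizationι X x')
  have hcompat : ∀ a : X.presheaf.stalk (Curv2.normalizationι X x'),
      χ (algebraMap F _ (X.residue (Curv2.normalizationι X x') a)) = Brnch.toResidue _ m a := by
    intro a
    have h1 : algebraMap F _ (X.residue (Curv2.normalizationι X x') a) =
        (Curv2.normalization X).residue x' ((Curv2.normalizationι X).stalkMap x' a) :=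
      congrArg (fun f : X.presheaf.stalk (Curv2.normalizationι X x') ⟶ (Curv2.normalization X).residueField x' => f a)
        (Scheme.residue_residueFieldMap (Curv2.normalizationι X) x')
    rw [h1]
    show θ ((Curv2.normalizationι X).stalkMap x' a) = _
    letI : Algebra Γ(X, U) (X.presheaf.stalk (Curv2.normalizationι X x')) :=
      TopCat.Presheaf.algebra_section_stalk X.presheaf (⟨_, hx⟩ : U)
    haveI := hU.isLocalization_stalk ⟨_, hx⟩
    have heq : θ.comp ((Curv2.normalizationι X).stalkMap x').hom = Brnch.toResidue _ m := by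
      refine IsLocalization.ringHom_ext (hU.primeIdealOf ⟨_, hx⟩).asIdeal.primeCompl (RingHom.ext fun r => ?_)
      show θ ((Curv2.normalizationι X).stalkMap x' (X.presheaf.germ U _ hx r)) = _
      rw [Scheme.Hom.germ_stalkMap_apply]
      refine (hθeq _).trans ?_
      show Ideal.Quotient.mk m.asIdeal (D.ψ ((Curv2.normalizationι X).app U r)) = _
      rw [show (Curv2.normalizationι X).app U r = D.φ r by rw [hφ], ← RingHom.comp_apply D.ψ, D.comm, htoC, hloc]
      rfl
    exact RingHom.congr_fun heq a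
  haveI : Algebra.IsAlgebraic F ((Curv2.normalization X).residueField x') := by
    refine ⟨fun z => IsIntegral.isAlgebraic ?_⟩
    obtain ⟨c, hc⟩ := Ideal.Quotient.mk_surjective (χ z)
    obtain ⟨p, hp, hpc⟩ := (Algebra.IsIntegral.isIntegral (R := CAlg2.red (X.presheaf.stalk (Curv2.normalizationι X x'))) c)
    let r0 : CAlg2.red (X.presheaf.stalk (Curv2.normalizationι X x')) →+* F :=
      (X.residue (Curv2.normalizationι X x')).hom.comp (redEquiv X _).toRingHom
    refine ⟨p.map r0, hp.map r0, χ.injective ?_⟩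
    have hmap : (χ.toRingHom.comp (algebraMap F ((Curv2.normalization X).residueField x'))).comp r0 =
        (Ideal.Quotient.mk m.asIdeal).comp (algebraMap (CAlg2.red (X.presheaf.stalk (Curv2.normalizationι X x'))) _) := by
      refine Ideal.Quotient.ringHom_ext (RingHom.ext fun a => ?_)
      show χ (algebraMap F _ (X.residue _ (redEquiv X _ (Ideal.Quotient.mk _ a)))) = _
      rw [redEquiv_mk, hcompat]
      rfl
    rw [map_zero]
    show χ.toRingHom _ = 0
    rw [Polynomial.eval₂_map, Polynomial.hom_eval₂, ← RingHom.comp_assoc, hmap,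
      show χ.toRingHom z = Ideal.Quotient.mk m.asIdeal c from hc.symm, ← Polynomial.hom_eval₂, hpc, map_zero]
  let Ω := AlgebraicClosure (IsLocalRing.ResidueField (X.presheaf.stalk (Curv2.normalizationι X x')))
  letI : Algebra F Ω := RingHom.toAlgebra (R := F) (S := Ω)
    (@algebraMap (IsLocalRing.ResidueField (X.presheaf.stalk (Curv2.normalizationι X x'))) Ω _ _ (AlgebraicClosure.instAlgebra _))
  haveI : IsAlgClosed Ω := AlgebraicClosure.isAlgClosed _
  refine ENat.card_congr (Equiv.trans ?_ (Field.embEquivOfIsAlgClosed F ((Curv2.normalization X).residueField x') Ω).symm)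
  exact
    { toFun := fun σ =>
        { toRingHom := σ.1.comp χ.toRingHom
          commutes' := fun z => by
            obtain ⟨a, rfl⟩ := Ideal.Quotient.mk_surjective z
            show σ.1 (χ (algebraMap F _ (X.residue (Curv2.normalizationι X x') a))) = _
            rw [hcompat]
            exact RingHom.congr_fun σ.2 a }
      invFun := fun τ => ⟨τ.toRingHom.comp χ.symm.toRingHom, RingHom.ext fun a => by
        show τ (χ.symm (Brnch.toResidue _ m a)) = _
        rw [← hcompat, χ.symm_apply_apply, AlgHom.commutes]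
        rfl⟩
      left_inv := fun σ => Subtype.ext (RingHom.ext fun z => congrArg σ.1 (χ.apply_symm_apply z))
      right_inv := fun τ => AlgHom.ext fun z => congrArg τ (χ.symm_apply_apply z) }

/-- the two counts -/
theorem branches_eq (x : X) :
    Brnch.numBranchesAt X x = ENat.card {x' : ↥(Curv2.normalization X) // Curv2.normalizationι X x' = x} ∧
      Brnch.numGeomBranchesAt X x =
        ∑' x' : {x' : ↥(Curv2.normalization X) // Curv2.normalizationι X x' = x},
          (letI := ((Curv2.normalizationι X).residueFieldMap x'.1).hom.toAlgebra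
           ENat.card (Field.Emb (X.residueField ((Curv2.normalizationι X).base x'.1))
             ((Curv2.normalization X).residueField x'.1))) := by
  obtain ⟨_, ⟨U, hU, rfl⟩, hx, -⟩ := X.isBasis_affineOpens.exists_subset_of_mem_open (Set.mem_univ x) isOpen_univ
  obtain ⟨D, hφ, hloc, htoC, hP⟩ := exists_data X U hU x hx
  haveI := isIntegralHom_normalizationι X
  have hV : IsAffineOpen ((Curv2.normalizationι X) ⁻¹ᵁ U) := hU.preimage _
  haveI : D.P.IsPrime := by rw [hP]; infer_instance
  have hint : D.φ.IsIntegral := by rw [hφ]; exact IsIntegralHom.isIntegral_app _ U hU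
  let e := (D.equiv hint).trans ((Equiv.subtypeEquivRight fun Q => by rw [hP, hφ]).trans (fiberEquiv X hU hV x hx))
  have hfin : (minimalPrimes (X.presheaf.stalk x)).Finite := by
    rw [IsDomain.minimalPrimes_eq_singleton_bot]; exact Set.finite_singleton _
  constructor
  · show Brnch.numBranches _ = _
    unfold Brnch.numBranches
    rw [if_pos hfin]
    exact ENat.card_congr e
  · show Brnch.numGeomBranches _ = _
    unfold Brnch.numGeomBranches
    rw [if_pos hfin, enat_card_sigma, ← e.tsum_eq]
    refine tsum_congr fun m => card_emb X hU hV (e m).1 x (e m).2 hx D hφ hloc htoC hP m ?_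
    exact (congrArg PrimeSpectrum.asIdeal (fiberEquiv_spec X hU hV x hx
      ⟨(D.equiv hint m).1, ((congrArg (fun f => Ideal.comap f _) hφ.symm).trans (D.equiv hint m).2).trans hP⟩)).symm

end Groth.Agent.NormRed18
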