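import Groth.Agent.Lib.NormRed18.ToK
import Groth.Agent.Lib.ModM1.Exact
import Groth.Agent.Lib.ModM1.Stalk
import Groth.Prelude.Def_Algz2
import Groth.Prelude.Def_ClSub2

/-!
# The normalisation morphism of a one-dimensional Nagata scheme
-/

namespace Groth.Agent.NormRed18

open CategoryTheory CategoryTheory.Limits AlgebraicGeometry TopologicalSpace Opposite
universe u

variable {X : Scheme.{u}} [IsIntegral X]
    [QuasiCompact (X.fromSpecStalk (genericPoint X))] [QuasiSeparated (X.fromSpecStalk (genericPoint X))]

variable (X) in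
/-- the pushforward of the structure module of the normalisation -/
noncomputable abbrev pushO : X.Modules :=
  (Scheme.Modules.pushforward (Curv2.normalizationι X)).obj (Coh.structureModule (Curv2.normalization X))

lemma algebraMap_stalk_germ {x : X} {V : X.Opens} (hx : x ∈ V) (r : Γ(X, V)) :
    algebraMap (X.presheaf.stalk x) X.functionField (X.presheaf.germ V x hx r) =
      X.presheaf.germ V (genericPoint X) (((genericPoint_spec X).mem_open_set_iff V.isOpen).mpr (by simpa using ⟨x, hx⟩)) r := by
  haveI : Nonempty V := ⟨⟨x, hx⟩⟩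
  exact Scheme.algebraMap_germ_eq_germToFunctionField X hx r

/-- the stalk of the pushforward inside the function field -/
noncomputable def pushStalkToK (x : X) : (pushO X).presheaf.stalk x →+ X.functionField :=
  (colimit.desc ((OpenNhds.inclusion x).op ⋙ (pushO X).presheaf)
    { pt := AddCommGrpCat.of X.functionField
      ι :=
        { app := fun W => AddCommGrpCat.ofHom (toK (V := W.unop.1) ⟨x, W.unop.2⟩).hom.toAddMonoidHom
          naturality := fun W W' i => by
            ext s
            exact ConcreteCategory.congr_hom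
              (map_toK (V := W.unop.1) (W := W'.unop.1) i.unop.down.down ⟨x, W.unop.2⟩ ⟨x, W'.unop.2⟩) s } }).hom

lemma pushStalkToK_germ (x : X) {V : X.Opens} (hx : x ∈ V) (s : Γ(pushO X, V)) :
    pushStalkToK x ((pushO X).presheaf.germ V x hx s) = toK (V := V) ⟨x, hx⟩ s :=
  ConcreteCategory.congr_hom (colimit.ι_desc (F := (OpenNhds.inclusion x).op ⋙ (pushO X).presheaf) _ (op ⟨V, hx⟩)) s

lemma pushStalkToK_smul (x : X) (a : X.presheaf.stalk x) (v : (pushO X).presheaf.stalk x) :
    pushStalkToK x (a • v) = algebraMap (X.presheaf.stalk x) X.functionField a * pushStalkToK x v := by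
  obtain ⟨Ua, ha, r, rfl⟩ := TopCat.Presheaf.exists_germ_eq X.presheaf a
  obtain ⟨Uv, hv, m, rfl⟩ := TopCat.Presheaf.exists_germ_eq (pushO X).presheaf v
  rw [← TopCat.Presheaf.germ_res_apply X.presheaf (homOfLE (inf_le_left : Ua ⊓ Uv ≤ Ua)) x ⟨ha, hv⟩,
    ← TopCat.Presheaf.germ_res_apply (pushO X).presheaf (homOfLE (inf_le_right : Ua ⊓ Uv ≤ Uv)) x ⟨ha, hv⟩,
    ← M1.germ_smul, pushStalkToK_germ, pushStalkToK_germ, algebraMap_stalk_germ]
  show toK _ ((Curv2.normalizationι X).app (Ua ⊓ Uv) _ * (_ : Γ(Curv2.normalization X, (Curv2.normalizationι X) ⁻¹ᵁ (Ua ⊓ Uv)))) = _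
  exact (map_mul (toK (V := Ua ⊓ Uv) ⟨x, ha, hv⟩).hom _ _).trans
    (congrArg (· * _) (toK_app_apply (V := Ua ⊓ Uv) ⟨x, ha, hv⟩ _))

lemma pushStalkToK_injective (x : X) : Function.Injective (pushStalkToK x) := by
  rw [injective_iff_map_eq_zero]
  intro v hv
  obtain ⟨V, hx, s, rfl⟩ := TopCat.Presheaf.exists_germ_eq (pushO X).presheaf v
  rw [pushStalkToK_germ] at hv
  have h0 : s = 0 := toK_injective (V := V) ⟨x, hx⟩ (hv.trans (map_zero (toK (V := V) ⟨x, hx⟩).hom).symm)
  rw [h0]; exact map_zero _

lemma range_pushStalkToK (x : X) :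
    Set.range (pushStalkToK x) = (integralClosure (X.presheaf.stalk x) X.functionField : Set X.functionField) := by
  obtain ⟨_, ⟨U, hU, rfl⟩, hxU, -⟩ := X.isBasis_affineOpens.exists_subset_of_mem_open (Set.mem_univ x) isOpen_univ
  ext z
  constructor
  · rintro ⟨v, rfl⟩
    obtain ⟨V, hV, s, rfl⟩ := TopCat.Presheaf.exists_germ_eq (pushO X).presheaf v
    obtain ⟨_, ⟨W, hW, rfl⟩, hxW, hWV⟩ := X.isBasis_affineOpens.exists_subset_of_mem_open (a := x) hV V.2
    rw [← TopCat.Presheaf.germ_res_apply (pushO X).presheaf (homOfLE (hWV : W ≤ V)) x hxW, pushStalkToK_germ]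
    haveI hπ : IsIntegralHom (X.fromSpecStalk (genericPoint X)).fromNormalization := inferInstance
    obtain ⟨p, hp, hps⟩ := hπ.isIntegral_app W hW
      ((pushO X).presheaf.map (homOfLE (hWV : W ≤ V)).op s)
    refine ⟨p.map (X.presheaf.germ W x hxW).hom, hp.map _, ?_⟩
    rw [Polynomial.eval₂_map,
      show (algebraMap (X.presheaf.stalk x) X.functionField).comp (X.presheaf.germ W x hxW).hom =
        (toK (V := W) ⟨x, hxW⟩).hom.comp ((X.fromSpecStalk (genericPoint X)).fromNormalization.app W).hom from
        RingHom.ext fun r => (algebraMap_stalk_germ hxW r).trans (toK_app_apply (V := W) ⟨x, hxW⟩ r).symm]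
    exact (Polynomial.hom_eval₂ p _ (toK (V := W) ⟨x, hxW⟩).hom _).symm.trans ((congrArg _ hps).trans (map_zero _))
  · intro hz
    haveI : Nonempty U := ⟨⟨x, hxU⟩⟩
    have hne : ((U : X.Opens) : Set X).Nonempty := ⟨x, hxU⟩
    letI := TopCat.Presheaf.algebra_section_stalk X.presheaf (⟨x, hxU⟩ : U)
    haveI := hU.isLocalization_stalk ⟨x, hxU⟩
    haveI : IsScalarTower Γ(X, U) (X.presheaf.stalk x) X.functionField := IsScalarTower.of_algebraMap_eq fun r =>
      (Scheme.algebraMap_germ_eq_germToFunctionField X hxU r).symm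
    obtain ⟨⟨m, hm⟩, k, hk, hkm⟩ := IsIntegral.exists_multiple_integral_of_isLocalization
      (hU.primeIdealOf ⟨x, hxU⟩).asIdeal.primeCompl z hz
    let g := X.fromSpecStalk (genericPoint X)
    letI : Algebra Γ(X, U) Γ(Spec (X.presheaf.stalk (genericPoint X)), g ⁻¹ᵁ U) := (g.app U).hom.toAlgebra
    let E := (genSecIso (V := U) hne).commRingCatIsoToRingEquiv
    have hmem : IsIntegral Γ(X, U) (E.symm (m • z)) := by
      refine ⟨k, hk, ?_⟩
      rw [show algebraMap Γ(X, U) Γ(Spec (X.presheaf.stalk (genericPoint X)), g ⁻¹ᵁ U) =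
          E.symm.toRingHom.comp (algebraMap Γ(X, U) X.functionField) from RingHom.ext fun r => by
        show g.app U r = E.symm (X.germToFunctionField U r)
        apply E.injective
        rw [E.apply_symm_apply]
        exact ConcreteCategory.congr_hom (app_genSecIso (V := U) hne) r,
        show E.symm (m • z) = E.symm.toRingHom (m • z) from rfl, ← Polynomial.hom_eval₂]
      exact (congrArg E.symm.toRingHom hkm).trans (map_zero _)
    let b := (g.normalizationObjIso hU).inv ⟨_, hmem⟩
    have hb : toK hne b = m • z := by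
      rw [toK_eq hne hU, show (g.normalizationObjIso hU).hom b = ⟨_, hmem⟩ from
        (g.normalizationObjIso hU).commRingCatIsoToRingEquiv.apply_symm_apply _]
      exact E.apply_symm_apply _
    have hu : IsUnit (X.presheaf.germ U x hxU m) :=
      IsLocalization.map_units (X.presheaf.stalk x) (⟨m, hm⟩ : (hU.primeIdealOf ⟨x, hxU⟩).asIdeal.primeCompl)
    obtain ⟨w, hw⟩ := hu.exists_left_inv
    refine ⟨w • ((pushO X).presheaf.germ U x hxU b : (pushO X).presheaf.stalk x), ?_⟩
    rw [pushStalkToK_smul, pushStalkToK_germ]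
    refine (congrArg _ hb).trans ?_
    rw [Algebra.smul_def, IsScalarTower.algebraMap_apply Γ(X, U) (X.presheaf.stalk x) X.functionField, ← mul_assoc, ← map_mul]
    show algebraMap _ _ (w * X.presheaf.germ U x hxU m) * z = z
    rw [hw, map_one, one_mul]

lemma app_injective {V : X.Opens} : Function.Injective ((Curv2.normalizationι X).app V) := by
  by_cases hV : (V : Set X).Nonempty
  · intro a b h
    haveI : Nonempty V := hV.to_subtype
    refine Scheme.germToFunctionField_injective X V ?_
    exact (toK_app_apply hV a).symm.trans ((congrArg (toK hV) h).trans (toK_app_apply hV b))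
  · have hb : V = ⊥ := by
      ext z; simp only [Set.not_nonempty_iff_eq_empty.1 hV]; simp
    subst hb
    haveI : Subsingleton Γ(X, ⊥) := CommRingCat.subsingleton_of_isTerminal X.sheaf.isTerminalOfEmpty
    exact Function.injective_of_subsingleton _

theorem mono_unitToPush : Mono (ClSub.unitToPush (Curv2.normalizationι X)) :=
  (M1.mono_iff_app _).2 fun _ => app_injective

variable (X) in
/-- the cokernel of the unit -/
noncomputable abbrev cokerO : X.Modules := cokernel (ClSub.unitToPush (Curv2.normalizationι X))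

theorem length_coker (x : X) :
    Module.length (X.presheaf.stalk x) ((cokerO X).presheaf.stalk x) = Curv2.deltaInv (X.presheaf.stalk x) := by
  let A := X.presheaf.stalk x
  let e : FractionRing A ≃ₐ[A] X.functionField := FractionRing.algEquiv A X.functionField
  let Λ : ((pushO X).presheaf.stalk x) →ₗ[A] integralClosure A (FractionRing A) :=
    { toFun := fun v => ⟨e.symm (pushStalkToK x v), by
        have h : pushStalkToK x v ∈ integralClosure A X.functionField :=
          SetLike.mem_coe.1 (range_pushStalkToK x ▸ ⟨v, rfl⟩)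
        exact h.map e.symm.toAlgHom⟩
      map_add' := fun a b => Subtype.ext (by simp)
      map_smul' := fun a v => Subtype.ext (by
        show e.symm (pushStalkToK x (a • v)) = a • e.symm (pushStalkToK x v)
        rw [pushStalkToK_smul, map_mul, AlgEquiv.commutes, Algebra.smul_def]) }
  have hΛ : Function.Bijective Λ := by
    refine ⟨fun a b h => pushStalkToK_injective x (e.symm.injective (congrArg Subtype.val h)), fun c => ?_⟩
    have hc : IsIntegral A (e c.1) := c.2.map e.toAlgHom
    obtain ⟨v, hv⟩ : e c.1 ∈ Set.range (pushStalkToK x) := by rw [range_pushStalkToK x]; exact hc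
    exact ⟨v, Subtype.ext (by show e.symm (pushStalkToK x v) = c.1; rw [hv, e.symm_apply_apply])⟩
  let q := Algz.stalkMapₗ (cokernel.π (ClSub.unitToPush (Curv2.normalizationι X))) x
  let S : ShortComplex X.Modules := ShortComplex.mk (ClSub.unitToPush (Curv2.normalizationι X)) _
    (cokernel.condition _)
  have hS : S.Exact := ShortComplex.exact_cokernel _
  have hq : Function.Surjective q := (M1.epi_iff_stalk S.g).1 (inferInstanceAs (Epi (cokernel.π _))) x
  let u := Algz.stalkMapₗ (ClSub.unitToPush (Curv2.normalizationι X)) x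
  have hker : q.ker = u.range := by
    ext v
    constructor
    · intro hv; exact (M1.exact_iff_stalk_eq_zero S).1 hS x v hv
    · rintro ⟨a, rfl⟩
      show ((M1.stalkAb x).map S.g) (((M1.stalkAb x).map S.f) a) = 0
      rw [← ConcreteCategory.comp_apply, ← Functor.map_comp, S.zero, Functor.map_zero]; rfl
  have hrange : u.range.map Λ = LinearMap.range (Algebra.linearMap A (integralClosure A (FractionRing A))) := by
    have key : ∀ (V : X.Opens) (hx : x ∈ V) (r : Γ(Coh.structureModule X, V)),
        Λ (u ((Coh.structureModule X).presheaf.germ V x hx r)) =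
          algebraMap A _ (X.presheaf.germ V x hx (show Γ(X, V) from r)) := by
      intro V hx r
      apply Subtype.ext
      show e.symm (pushStalkToK x (((M1.stalkAb x).map (ClSub.unitToPush (Curv2.normalizationι X))) ((Coh.structureModule X).presheaf.germ V x hx r))) = algebraMap A _ _
      rw [M1.germ_naturality, pushStalkToK_germ]
      have h := toK_app_apply (X := X) (V := V) ⟨x, hx⟩ (show Γ(X, V) from r)
      rw [← algebraMap_stalk_germ hx] at h
      exact (congrArg e.symm h).trans (e.symm.commutes _)
    ext c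
    constructor
    · rintro ⟨_, ⟨a, rfl⟩, rfl⟩
      obtain ⟨V, hx, r, rfl⟩ := TopCat.Presheaf.exists_germ_eq (Coh.structureModule X).presheaf a
      exact ⟨_, (key V hx r).symm⟩
    · rintro ⟨a, rfl⟩
      obtain ⟨V, hx, r, rfl⟩ := TopCat.Presheaf.exists_germ_eq X.presheaf a
      exact ⟨_, ⟨_, rfl⟩, key V hx r⟩
  unfold Curv2.deltaInv
  rw [← (q.quotKerEquivOfSurjective hq).length_eq]
  exact (Submodule.Quotient.equiv q.ker _ (LinearEquiv.ofBijective Λ hΛ) (by rw [hker]; exact hrange)).length_eq

theorem subsingleton_coker (x : X) (hx : x = genericPoint X) : Subsingleton ((cokerO X).presheaf.stalk x) := by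
  subst hx
  refine Module.length_eq_zero_iff.1 ((length_coker (genericPoint X)).trans ?_)
  unfold Curv2.deltaInv
  refine Module.length_eq_zero_iff.2 (Submodule.Quotient.subsingleton_iff.2 (eq_top_iff.2 fun c _ => ?_))
  obtain ⟨a, b, hb, h⟩ := IsFractionRing.div_surjective (X.presheaf.stalk (genericPoint X)) c.1
  have hfield : IsField (X.presheaf.stalk (genericPoint X)) := Field.toIsField X.functionField
  letI : Field (X.presheaf.stalk (genericPoint X)) := hfield.toField
  obtain ⟨w, hw⟩ := hfield.mul_inv_cancel (nonZeroDivisors.ne_zero hb)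
  refine ⟨a * w, Subtype.ext ?_⟩
  show algebraMap _ _ (a * w) = c.1
  rw [← h, map_mul, div_eq_mul_inv]
  congr 1
  exact eq_inv_of_mul_eq_one_right (by rw [← map_mul, hw, map_one])

end Groth.Agent.NormRed18
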