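import Groth.Prelude.Def_Curv2
import Groth.Agent.Lib.NormRed18.QuasiFinite
import Mathlib.AlgebraicGeometry.Morphisms.QuasiFinite
import Mathlib.AlgebraicGeometry.FunctionField
import Mathlib.AlgebraicGeometry.Noetherian

/-!
# Normalisation of one-dimensional Noetherian integral schemes
-/

namespace Groth.Agent.NormRed18

open CategoryTheory AlgebraicGeometry
universe u

variable (X : Scheme.{u}) [IsIntegral X] [IsLocallyNoetherian X]
    [QuasiCompact (X.fromSpecStalk (genericPoint X))] [QuasiSeparated (X.fromSpecStalk (genericPoint X))]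

theorem sections_package (hdim : topologicalKrullDim X ≤ 1) (U : X.Opens) (hU : IsAffineOpen U) (hne : (U : Set X).Nonempty) :
    IsDedekindDomain Γ(Curv2.normalization X, (Curv2.normalizationι X) ⁻¹ᵁ U) ∧
      ((Curv2.normalizationι X).app U).hom.QuasiFinite := by
  haveI : Nonempty U := hne.to_subtype
  have hη : genericPoint X ∈ U := ((genericPoint_spec X).mem_open_set_iff U.isOpen).mpr (by simpa using hne)
  let g := X.fromSpecStalk (genericPoint X)
  haveI : IsNoetherianRing Γ(X, U) := IsLocallyNoetherian.component_noetherian ⟨U, hU⟩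
  haveI : Ring.KrullDimLE 1 Γ(X, U) := Ring.krullDimLE_iff.2 (by
    rw [← PrimeSpectrum.topologicalKrullDim_eq_ringKrullDim]
    exact (hU.fromSpec.isOpenEmbedding.isInducing.topologicalKrullDim_le).trans hdim)
  letI : Algebra Γ(X, U) Γ(Spec (X.presheaf.stalk (genericPoint X)), g ⁻¹ᵁ U) := (g.app U).hom.toAlgebra
  have hpre : g ⁻¹ᵁ U = ⊤ := by
    apply top_le_iff.1
    intro x _
    show g x ∈ U
    exact (show g x ⤳ genericPoint X from by
      have : g x ∈ {z | z ⤳ genericPoint X} := by rw [← Scheme.range_fromSpecStalk]; exact ⟨x, rfl⟩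
      exact this).mem_open U.2 hη
  let e₀ : X.functionField ≅ Γ(Spec (X.presheaf.stalk (genericPoint X)), g ⁻¹ᵁ U) :=
    (Scheme.ΓSpecIso (X.presheaf.stalk (genericPoint X))).symm ≪≫
      (Spec (X.presheaf.stalk (genericPoint X))).presheaf.mapIso (eqToIso hpre).op
  have he₀ : g.app U = X.germToFunctionField U ≫ e₀.hom := by
    rw [Scheme.fromSpecStalk_app hη]
    rfl
  let e : X.functionField ≃ₐ[Γ(X, U)] Γ(Spec (X.presheaf.stalk (genericPoint X)), g ⁻¹ᵁ U) :=
    AlgEquiv.ofRingEquiv (f := e₀.commRingCatIsoToRingEquiv) fun a => by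
      show e₀.hom ((X.germToFunctionField U) a) = (g.app U) a
      rw [he₀]; rfl
  haveI := functionField_isFractionRing_of_isAffineOpen X U hU
  haveI : IsFractionRing Γ(X, U) Γ(Spec (X.presheaf.stalk (genericPoint X)), g ⁻¹ᵁ U) :=
    IsLocalization.isLocalization_of_algEquiv _ e
  letI : Field Γ(Spec (X.presheaf.stalk (genericPoint X)), g ⁻¹ᵁ U) := (e.symm.toMulEquiv.isField (Field.toIsField _)).toField
  let K := Γ(Spec (X.presheaf.stalk (genericPoint X)), g ⁻¹ᵁ U)
  let B := integralClosure Γ(X, U) K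
  haveI : IsDedekindDomain B := KrullAkizuki.isDedekindDomain_integralClosure Γ(X, U) K K
  have hqf : Algebra.QuasiFinite Γ(X, U) B := quasiFinite_of_between Γ(X, U) K B Subtype.val_injective
  let ε : Γ(Curv2.normalization X, (Curv2.normalizationι X) ⁻¹ᵁ U) ≅ CommRingCat.of B := g.normalizationObjIso hU
  refine ⟨?_, ?_⟩
  · haveI : IsDomain Γ(Curv2.normalization X, (Curv2.normalizationι X) ⁻¹ᵁ U) :=
      ε.commRingCatIsoToRingEquiv.toMulEquiv.isDomain
    let φ := ε.commRingCatIsoToRingEquiv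
    haveI := isNoetherianRing_of_ringEquiv _ φ.symm
    haveI : IsIntegrallyClosed Γ(Curv2.normalization X, (Curv2.normalizationι X) ⁻¹ᵁ U) := IsIntegrallyClosed.of_equiv φ.symm
    haveI : Ring.KrullDimLE 1 B := Ring.krullDimLE_one_iff_of_noZeroDivisors.2 fun P hP _ =>
      Ideal.IsPrime.isMaximal inferInstance hP
    haveI : Ring.KrullDimLE 1 Γ(Curv2.normalization X, (Curv2.normalizationι X) ⁻¹ᵁ U) := Ring.krullDimLE_iff.2
      ((ringKrullDim_eq_of_ringEquiv φ).le.trans (Ring.krullDimLE_iff.1 ‹Ring.KrullDimLE 1 B›))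
    haveI := KrullAkizuki.dimensionLEOne_of_krullDimLE Γ(Curv2.normalization X, (Curv2.normalizationι X) ⁻¹ᵁ U)
    exact { }
  · have happ : (Curv2.normalizationι X).app U = CommRingCat.ofHom (algebraMap Γ(X, U) B) ≫ ε.inv :=
      g.fromNormalization_app hU
    rw [happ, CommRingCat.hom_comp]
    exact RingHom.QuasiFinite.propertyIsLocal.respectsIso.1 _ ε.symm.commRingCatIsoToRingEquiv
      (RingHom.quasiFinite_algebraMap.2 hqf)

end Groth.Agent.NormRed18
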