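import Groth.Prelude.Def_Curv2
import Mathlib.AlgebraicGeometry.FunctionField

/-!
# Sections of the normalisation inside the function field
-/

namespace Groth.Agent.NormRed18

open CategoryTheory AlgebraicGeometry
universe u

variable (X : Scheme.{u}) [IsIntegral X]
    [QuasiCompact (X.fromSpecStalk (genericPoint X))] [QuasiSeparated (X.fromSpecStalk (genericPoint X))]

variable {X}

lemma fromSpecStalk_genericPoint_preimage {V : X.Opens} (hV : (V : Set X).Nonempty) :
    (X.fromSpecStalk (genericPoint X)) ⁻¹ᵁ V = ⊤ := by
  apply top_le_iff.1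
  intro y _
  show X.fromSpecStalk (genericPoint X) y ∈ V
  have h : X.fromSpecStalk (genericPoint X) y ∈ {z | z ⤳ genericPoint X} := by
    rw [← Scheme.range_fromSpecStalk]; exact ⟨y, rfl⟩
  exact (show X.fromSpecStalk (genericPoint X) y ⤳ genericPoint X from h).mem_open V.2
    (((genericPoint_spec X).mem_open_set_iff V.isOpen).mpr (by simpa using hV))

/-- sections over the generic point are the function field -/
noncomputable def genSecIso {V : X.Opens} (hV : (V : Set X).Nonempty) :
    Γ(Spec (X.presheaf.stalk (genericPoint X)), (X.fromSpecStalk (genericPoint X)) ⁻¹ᵁ V) ≅ X.functionField :=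
  (Spec (X.presheaf.stalk (genericPoint X))).presheaf.mapIso
      (eqToIso (fromSpecStalk_genericPoint_preimage hV).symm).op ≪≫
    Scheme.ΓSpecIso (X.presheaf.stalk (genericPoint X))

lemma app_genSecIso {V : X.Opens} (hV : (V : Set X).Nonempty) :
    (X.fromSpecStalk (genericPoint X)).app V ≫ (genSecIso hV).hom =
      X.presheaf.germ V (genericPoint X) (((genericPoint_spec X).mem_open_set_iff V.isOpen).mpr (by simpa using hV)) := by
  rw [Scheme.fromSpecStalk_app (((genericPoint_spec X).mem_open_set_iff V.isOpen).mpr (by simpa using hV))]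
  simp only [genSecIso, Iso.trans_hom, Functor.mapIso_hom, Category.assoc, ← Functor.map_comp_assoc]
  rw [show ((homOfLE (le_top : (X.fromSpecStalk (genericPoint X)) ⁻¹ᵁ V ≤ ⊤)).op ≫
      (eqToIso (fromSpecStalk_genericPoint_preimage hV).symm).op.hom) = 𝟙 _ from Subsingleton.elim _ _,
    CategoryTheory.Functor.map_id, Category.id_comp, Iso.inv_hom_id, Category.comp_id]

/-- sections of the normalisation inside the function field -/
noncomputable def toK {V : X.Opens} (hV : (V : Set X).Nonempty) :
    Γ((X.fromSpecStalk (genericPoint X)).normalization, (X.fromSpecStalk (genericPoint X)).fromNormalization ⁻¹ᵁ V) ⟶ X.functionField :=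
  (X.fromSpecStalk (genericPoint X)).toNormalization.appLE ((X.fromSpecStalk (genericPoint X)).fromNormalization ⁻¹ᵁ V)
      ((X.fromSpecStalk (genericPoint X)) ⁻¹ᵁ V)
      (show (X.fromSpecStalk (genericPoint X)) ⁻¹ᵁ V ≤
          (X.fromSpecStalk (genericPoint X)).toNormalization ⁻¹ᵁ ((X.fromSpecStalk (genericPoint X)).fromNormalization ⁻¹ᵁ V) by
        rw [← Scheme.Hom.comp_preimage, Scheme.Hom.toNormalization_fromNormalization]) ≫
    (genSecIso hV).hom

lemma app_toK {V : X.Opens} (hV : (V : Set X).Nonempty) :
    (X.fromSpecStalk (genericPoint X)).fromNormalization.app V ≫ toK hV =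
      X.presheaf.germ V (genericPoint X) (((genericPoint_spec X).mem_open_set_iff V.isOpen).mpr (by simpa using hV)) := by
  rw [← app_genSecIso hV, toK, ← Category.assoc]
  congr 1
  rw [Scheme.Hom.app_eq_appLE, Scheme.Hom.appLE_comp_appLE, Scheme.Hom.app_eq_appLE]
  congr 1
  rw [Scheme.Hom.toNormalization_fromNormalization]

lemma toK_app_apply {V : X.Opens} (hV : (V : Set X).Nonempty) (r : Γ(X, V)) :
    toK hV ((X.fromSpecStalk (genericPoint X)).fromNormalization.app V r) =
      X.presheaf.germ V (genericPoint X) (((genericPoint_spec X).mem_open_set_iff V.isOpen).mpr (by simpa using hV)) r :=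
  ConcreteCategory.congr_hom (app_toK hV) r

lemma map_toK {V W : X.Opens} (hWV : W ≤ V) (hV : (V : Set X).Nonempty) (hW : (W : Set X).Nonempty) :
    (X.fromSpecStalk (genericPoint X)).normalization.presheaf.map ((TopologicalSpace.Opens.map (X.fromSpecStalk (genericPoint X)).fromNormalization.base).map (homOfLE hWV)).op ≫ toK hW =
      toK hV := by
  rw [toK, toK, Scheme.Hom.map_appLE_assoc]
  rw [genSecIso, genSecIso, Iso.trans_hom, Iso.trans_hom, ← Category.assoc, ← Category.assoc]
  congr 1

lemma toK_injective {V : X.Opens} (hV : (V : Set X).Nonempty) : Function.Injective (toK hV) := by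
  let g := X.fromSpecStalk (genericPoint X)
  haveI : IsIntegral (X.fromSpecStalk (genericPoint X)).normalization := inferInstanceAs (IsIntegral g.normalization)
  refine (ConcreteCategory.bijective_of_isIso (genSecIso hV).hom).1.comp ?_
  obtain ⟨y, hy⟩ : ∃ y, y ∈ g ⁻¹ᵁ V := ⟨IsLocalRing.closedPoint (X.presheaf.stalk (genericPoint X)), by
    rw [fromSpecStalk_genericPoint_preimage hV]; trivial⟩
  have hy' : g.toNormalization y ∈ g.fromNormalization ⁻¹ᵁ V := by
    show g.fromNormalization (g.toNormalization y) ∈ V
    rw [← Scheme.Hom.comp_apply, Scheme.Hom.toNormalization_fromNormalization]; exact hy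
  have hgen : g.toNormalization y = genericPoint g.normalization := by
    refine (IsGenericPoint.eq ?_ (genericPoint_spec _))
    have h := g.toNormalization.denseRange.closure_range
    have hsub : Subsingleton (Spec (X.presheaf.stalk (genericPoint X))) :=
      inferInstanceAs (Subsingleton (PrimeSpectrum X.functionField))
    rw [show Set.range g.toNormalization = {g.toNormalization y} from
      Set.ext fun z => ⟨by rintro ⟨w, rfl⟩; rw [Subsingleton.elim w y]; exact rfl, fun hz => ⟨y, hz.symm⟩⟩] at h
    exact h
  let φ : g.normalization.presheaf.stalk (g.toNormalization y) ⟶ (Spec (X.presheaf.stalk (genericPoint X))).presheaf.stalk y :=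
    g.toNormalization.stalkMap y
  have hφ : Function.Injective φ := by
    have hfield : IsField (g.normalization.presheaf.stalk (g.toNormalization y)) := by
      rw [hgen]; exact Field.toIsField g.normalization.functionField
    letI := hfield.toField
    exact RingHom.injective φ.hom
  intro a b hab
  apply germ_injective_of_isIntegral g.normalization (g.toNormalization y) hy'
  apply hφ
  have key : ∀ c : Γ(g.normalization, g.fromNormalization ⁻¹ᵁ V), φ (g.normalization.presheaf.germ _ _ hy' c) =
      (Spec (X.presheaf.stalk (genericPoint X))).presheaf.germ (g ⁻¹ᵁ V) y hy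
        (g.toNormalization.appLE _ _ (by rw [← Scheme.Hom.comp_preimage, Scheme.Hom.toNormalization_fromNormalization]) c) := by
    intro c
    rw [Scheme.Hom.germ_stalkMap_apply, Scheme.Hom.appLE, CommRingCat.comp_apply, TopCat.Presheaf.germ_res_apply]
  refine (key a).trans (Eq.trans ?_ (key b).symm)
  exact congrArg _ hab

lemma toK_eq {V : X.Opens} (hV : (V : Set X).Nonempty) (hA : IsAffineOpen V)
    (s : Γ((X.fromSpecStalk (genericPoint X)).normalization, (X.fromSpecStalk (genericPoint X)).fromNormalization ⁻¹ᵁ V)) :
    toK hV s = (genSecIso hV).hom (((X.fromSpecStalk (genericPoint X)).normalizationObjIso hA).hom s).1 := by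
  let g := X.fromSpecStalk (genericPoint X)
  show (genSecIso hV).hom (g.toNormalization.appLE _ _ _ s) = _
  congr 1
  exact (ConcreteCategory.congr_hom (g.normalizationObjIso_hom_val hA) s).symm

end Groth.Agent.NormRed18
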